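import Groth.Agent.KPr28.FreeBasis
import Groth.Agent.ProjBundle14.LocalTriv
import Groth.Agent.EulerLib.InvClass
import Groth.Agent.DCat.FlatPull
import Groth.Agent.Clifford24.SmoothFamily

/-!
# Families which are locally projective spaces with their twisting sheaf
-/

set_option autoImplicit false
set_option linter.style.haveILetI false
set_option backward.isDefEq.respectTransparency false

universe u

open CategoryTheory CategoryTheory.Limits AlgebraicGeometry TopologicalSpace Opposite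
open Groth.Agent.Coherent

noncomputable section

namespace Groth.Agent.KPB28

variable {P T : Scheme.{u}}

/-- `π` is, locally on the base, `P^r` with `L` as its twisting sheaf. -/
structure LocPn (r : ℕ) (π : P ⟶ T) (L : P.Modules) : Prop where
  invertible : PicF.IsInvertible L
  chart : ∀ t : T, ∃ (V : Scheme.{u}) (φ : V ⟶ T) (ψ : KRR.PY r V ⟶ P) (_ : IsOpenImmersion φ),
    IsAffine V ∧ IsPullback ψ (KRR.pr r V) π φ ∧ t ∈ Set.range φ.base ∧
      Nonempty ((Scheme.Modules.pullback ψ).obj L ≅ Twist.twistOver r V 1)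

/-- A projective bundle of rank `r + 1` is locally `P^r`. -/
theorem locPn_of_isProjBundle {r : ℕ} {E : T.Modules} (hE : FlatMod.IsFinLocFreeOfRank (r + 1) E)
    {π : P ⟶ T} {O1 : P.Modules} {q : (Scheme.Modules.pullback π).obj E ⟶ O1}
    (hPB : KRR.IsProjBundle π E O1 q) : LocPn r π O1 where
  invertible := KRRPBLib.isInvertible_of_rankOne hPB.invertible
  chart t := by
    haveI := CAlgH3.LocFreeFactor.isQCoh_of_finLocFree (VarietyLib.isFinLocFree_of_rank hE)
    obtain ⟨W, htW, ⟨e⟩⟩ := hE t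
    obtain ⟨U, hU, htU, hUW⟩ := exists_isAffineOpen_mem_and_subset (x := t) (U := W) htW
    obtain ⟨b⟩ := Props12.exists_basis_sections e hUW
    obtain ⟨g, hg, ⟨eg⟩⟩ := ProjBundle14.exists_projSquare hPB hU b
    let R : Type u := Γ(T, U)
    let V : Scheme.{u} := Spec (CommRingCat.of R)
    obtain ⟨g₀, hg₀, ht₀⟩ := (Quot8.isPn_projSpaceOver r V).exists_projSquare (R := R) (𝟙 V)
    haveI : IsIso g₀ := hg₀.isIso_fst_of_isIso
    refine ⟨V, hU.fromSpec, inv g₀ ≫ g, inferInstance, inferInstance, ?_, ?_, ?_⟩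
    · refine hg.of_iso (asIso g₀) (Iso.refl _) (Iso.refl _) (Iso.refl _) (by simp) ?_ (by simp) (by simp)
      exact (Category.comp_id _).trans hg₀.w.symm |>.trans (by simp)
    · exact hU.range_fromSpec.symm ▸ htU
    · obtain ⟨e₁⟩ := ht₀ 1
      let h₀ := pullback.fst (CohB1.ProjSpace.toSpec r (ULift.{u} ℤ)) (specULiftZIsTerminal.from V)
      exact ⟨((Scheme.Modules.pullbackComp (inv g₀) g).app O1).symm ≪≫
        (Scheme.Modules.pullback (inv g₀)).mapIso (eg ≪≫ e₁.symm) ≪≫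
        (Scheme.Modules.pullbackComp (inv g₀) g₀).app _ ≪≫
        (Scheme.Modules.pullbackCongr (IsIso.inv_hom_id g₀)).app _ ≪≫
        (Scheme.Modules.pullbackId _).app _⟩

variable {r : ℕ} {π : P ⟶ T} {L : P.Modules}

theorem LocPn.isProper (H : LocPn r π L) : IsProper π := by
  choose V φ ψ hφ hV h ht e using H.chart
  let 𝒰 : T.OpenCover := Scheme.Cover.mkOfCovers T V φ (fun t => ⟨t, ht t⟩) (fun t => hφ t)
  refine IsZariskiLocalAtTarget.of_openCover (P := @IsProper) 𝒰 fun t => ?_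
  rw [show 𝒰.pullbackHom π t = pullback.snd π (φ t) from rfl,
    ← (h t).isoPullback_inv_snd, MorphismProperty.cancel_left_of_respectsIso (P := @IsProper)]
  exact RelVALib.isProper_toBase r (V t)

theorem LocPn.quasiCompact (H : LocPn r π L) : QuasiCompact π :=
  haveI := H.isProper; inferInstance

/-! ### Twists -/

variable (L) in
/-- The integral powers of `L`, given an inverse `Li`. -/
abbrev OP (Li : P.Modules) (d : ℤ) : P.Modules :=
  CohB1.tensorMod (CohB1.tensorPow L d.toNat) (CohB1.tensorPow Li (-d).toNat)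

variable (L) in
/-- `M(d)`. -/
abbrev tw (Li : P.Modules) (d : ℤ) (M : P.Modules) : P.Modules :=
  ((DCoh.tensorBi (X := P)).obj (OP L Li d)).obj M

variable {Li : P.Modules}

theorem isInvertible_inverse (hL : PicF.IsInvertible L) (hi : ClSub.IsInverseOf Li L)
    (hLi : PicF.IsInvertible Li) (d : ℤ) : PicF.IsInvertible (OP L Li d) :=
  AmpleLib.isInvertible_tensorMod (AmpleLib.isInvertible_tensorPow hL _) (AmpleLib.isInvertible_tensorPow hLi _)

theorem nonempty_OP_add (hL : PicF.IsInvertible L) (hi : ClSub.IsInverseOf Li L) (hLi : PicF.IsInvertible Li)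
    {a b c : ℤ} (h : a + b = c) : Nonempty (CohB1.tensorMod (OP L Li a) (OP L Li b) ≅ OP L Li c) := by
  let u := EulerLib.InvCl.mk L hL
  let v := EulerLib.InvCl.mk Li hLi
  have huv : v * u = 1 := by
    obtain ⟨e⟩ := hi
    exact EulerLib.InvCl.mk_eq (AmpleLib.isInvertible_tensorMod hLi hL) AmpleLib.isInvertible_structureModule e
  have hu : u * v = 1 := (mul_comm u v).trans huv
  let U : (EulerLib.InvCl P)ˣ := ⟨u, v, hu, huv⟩
  have hd : ∀ d : ℤ, EulerLib.InvCl.mk (OP L Li d) (isInvertible_inverse hL hi hLi d) = ((U ^ d : (EulerLib.InvCl P)ˣ) : EulerLib.InvCl P) := fun d => by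
    rw [show EulerLib.InvCl.mk (OP L Li d) (isInvertible_inverse hL hi hLi d) =
      EulerLib.InvCl.mk _ (AmpleLib.isInvertible_tensorPow hL d.toNat) *
        EulerLib.InvCl.mk _ (AmpleLib.isInvertible_tensorPow hLi (-d).toNat) from rfl,
      EulerLib.InvCl.mk_tensorPow hL, EulerLib.InvCl.mk_tensorPow hLi]
    rcases le_or_gt 0 d with hd | hd
    · obtain ⟨k, rfl⟩ := Int.eq_ofNat_of_zero_le hd
      simp [U, u, v]
    · obtain ⟨k, rfl⟩ : ∃ k : ℕ, d = -(k : ℤ) := ⟨(-d).toNat, by omega⟩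
      rw [zpow_neg, zpow_natCast, ← inv_pow, Units.val_pow_eq_pow_val]
      simp [U, u, v]
  have key : EulerLib.InvCl.mk _ (AmpleLib.isInvertible_tensorMod (isInvertible_inverse hL hi hLi a)
      (isInvertible_inverse hL hi hLi b)) = EulerLib.InvCl.mk _ (isInvertible_inverse hL hi hLi c) := by
    rw [← EulerLib.InvCl.mk_mul (isInvertible_inverse hL hi hLi a) (isInvertible_inverse hL hi hLi b), hd, hd, hd,
      ← h, zpow_add, Units.val_mul]
  exact Quotient.exact key

theorem nonempty_tw_tw (hL : PicF.IsInvertible L) (hi : ClSub.IsInverseOf Li L) (hLi : PicF.IsInvertible Li)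
    (M : P.Modules) {a b c : ℤ} (h : a + b = c) : Nonempty (tw L Li a (tw L Li b M) ≅ tw L Li c M) := by
  obtain ⟨e⟩ := nonempty_OP_add hL hi hLi h
  exact ⟨(DCat.TensorAssoc.assocIso _ _ _).symm ≪≫ AmpleLib.tensorIso e (Iso.refl M)⟩

theorem nonempty_OP_nat (hL : PicF.IsInvertible L) (k : ℕ) :
    Nonempty (OP L Li (k : ℤ) ≅ CohB1.tensorPow L k) := by
  rw [OP, Int.toNat_natCast, show (-(k : ℤ)).toNat = 0 by omega]
  exact ⟨AmpleLib.tensorComm _ _ ≪≫ AmpleLib.unitTensorIso _⟩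

theorem nonempty_tw_zero (hL : PicF.IsInvertible L) (M : P.Modules) : Nonempty (tw L Li 0 M ≅ M) := by
  obtain ⟨e⟩ := nonempty_OP_nat (Li := Li) hL 0
  exact ⟨AmpleLib.tensorIso e (Iso.refl M) ≪≫ AmpleLib.unitTensorIso M⟩

/-- A chart turns `L^d` into `O(d)`. -/
theorem nonempty_pullback_OP {V : Scheme.{u}} (ψ : KRR.PY r V ⟶ P)
    (e : (Scheme.Modules.pullback ψ).obj L ≅ Twist.twistOver r V 1) (hLi : PicF.IsInvertible Li)
    (hi : ClSub.IsInverseOf Li L) (d : ℤ) :
    Nonempty ((Scheme.Modules.pullback ψ).obj (OP L Li d) ≅ Twist.twistOver r V d) := by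
  have hm : Nonempty ((Scheme.Modules.pullback ψ).obj Li ≅ Twist.twistOver r V (-1)) := by
    obtain ⟨ei⟩ := hi
    obtain ⟨ea⟩ := CM28.nonempty_twistOver_add r V (show (1 : ℤ) + -1 = 0 by norm_num)
    obtain ⟨ez⟩ := CM28.nonempty_twistOver_zero r V
    let M := (Scheme.Modules.pullback ψ).obj Li
    let O := Coh.structureModule (KRR.PY r V)
    have c1 : CohB1.tensorMod M (Twist.twistOver r V 1) ≅ O :=
      AmpleLib.tensorIso (Iso.refl M) e.symm ≪≫ (DCat.PullTensor.pullTensorIso ψ Li L).symm ≪≫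
        (Scheme.Modules.pullback ψ).mapIso ei ≪≫ PicLoc.pullbackStructureIso ψ
    exact ⟨(AmpleLib.tensorComm _ _ ≪≫ AmpleLib.unitTensorIso M).symm ≪≫
      AmpleLib.tensorIso (Iso.refl M) (ea ≪≫ ez).symm ≪≫ (DCat.TensorAssoc.assocIso _ _ _).symm ≪≫
      AmpleLib.tensorIso c1 (Iso.refl _) ≪≫ AmpleLib.unitTensorIso _⟩
  obtain ⟨em⟩ := hm
  have hpow : ∀ (a : ℤ) (N : P.Modules), ((Scheme.Modules.pullback ψ).obj N ≅ Twist.twistOver r V a) →
      ∀ k : ℕ, Nonempty ((Scheme.Modules.pullback ψ).obj (CohB1.tensorPow N k) ≅ Twist.twistOver r V (k * a)) := by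
    intro a N eN k
    induction k with
    | zero =>
      obtain ⟨ez⟩ := CM28.nonempty_twistOver_zero r V
      exact ⟨PicLoc.pullbackStructureIso ψ ≪≫ ez.symm ≪≫ eqToIso (by simp)⟩
    | succ k ih =>
      obtain ⟨e1⟩ := ih
      obtain ⟨e2⟩ := CM28.nonempty_twistOver_add r V (show (k : ℤ) * a + a = ((k + 1 : ℕ) : ℤ) * a by push_cast; ring)
      exact ⟨DCat.PullTensor.pullTensorIso ψ _ _ ≪≫ AmpleLib.tensorIso e1 eN ≪≫ e2⟩
  obtain ⟨e1⟩ := hpow 1 L e d.toNat
  obtain ⟨e2⟩ := hpow (-1) Li em (-d).toNat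
  obtain ⟨e3⟩ := CM28.nonempty_twistOver_add r V
    (show (d.toNat : ℤ) * 1 + ((-d).toNat : ℤ) * -1 = d by omega)
  exact ⟨DCat.PullTensor.pullTensorIso ψ _ _ ≪≫ AmpleLib.tensorIso e1 e2 ≪≫ e3⟩

end Groth.Agent.KPB28
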