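import Mathlib.Algebra.BigOperators.Fin
import Mathlib.Algebra.BigOperators.Group.Finset.Basic
import Mathlib.Algebra.Group.Submonoid.BigOperators
import Mathlib.Algebra.Group.Units.Basic
import Mathlib.Algebra.Group.Subgroup.Basic
import Mathlib.Algebra.BigOperators.Ring.Finset
import Mathlib.Order.Filter.AtTopBot.Basic
import Mathlib.Tactic.Ring
import Mathlib.Tactic.LinearCombination

/-!
# The algebra of the projective bundle formula
-/

set_option autoImplicit false

universe u v

open Finset Filter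

namespace Groth.Agent.KPB28

variable {A : Type u} {B : Type v} [CommRing A] [CommRing B]

/-- Injectivity from the recurrence of the direct images of the twists. -/
theorem eq_zero_of_recurrence (r : ℕ) (e : ℕ → A) (σ : ℤ → A) (hσ0 : IsUnit (σ 0))
    (hneg : ∀ k : ℕ, 1 ≤ k → k ≤ r → σ (-(k : ℤ)) = 0) (he : IsUnit (e (r + 1)))
    (hrel : ∀ c : ℤ, 1 ≤ c → ∑ j ∈ range (r + 2), (-1 : A) ^ j * e j * σ (c - j) = 0)
    (x : Fin (r + 1) → A) (hx : ∀ᶠ c : ℤ in atTop, ∑ i, x i * σ (c - (i : ℕ)) = 0) : x = 0 := by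
  classical
  let y : ℤ → A := fun c => ∑ i, x i * σ (c - (i : ℕ))
  have hy : ∀ c : ℤ, (r : ℤ) + 1 ≤ c → ∑ j ∈ range (r + 2), (-1 : A) ^ j * e j * y (c - j) = 0 := by
    intro c hc
    simp only [y, Finset.mul_sum]
    rw [Finset.sum_comm]
    refine Finset.sum_eq_zero fun i _ => ?_
    rw [← mul_zero (x i), ← hrel (c - (i : ℕ)) (by omega), Finset.mul_sum]
    refine Finset.sum_congr rfl fun j _ => ?_
    rw [show c - (i : ℕ) - (j : ℤ) = c - j - (i : ℕ) by ring]
    ring
  obtain ⟨N, hN⟩ := eventually_atTop.1 hx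
  have hzero : ∀ k : ℕ, ∀ c : ℤ, 0 ≤ c → N ≤ c + k → y c = 0 := by
    intro k
    induction k with
    | zero => exact fun c _ hc => hN c (by simpa using hc)
    | succ k ih =>
      intro c h0 hc
      have h := hy (c + (r + 1)) (by omega)
      rw [Finset.sum_range_succ, Finset.sum_eq_zero, zero_add] at h
      · rw [show c + ((r : ℤ) + 1) - ((r + 1 : ℕ) : ℤ) = c by push_cast; ring] at h
        refine ((((isUnit_one (M := A)).neg.pow (r + 1)).mul he).mul_right_eq_zero).1 h
      · intro j hj
        rw [Finset.mem_range] at hj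
        rw [ih (c + (r + 1) - j) (by omega) (by omega), mul_zero]
  funext i
  have key : ∀ k : ℕ, ∀ i : Fin (r + 1), (i : ℕ) = k → x i = 0 := by
    intro k
    induction k using Nat.strong_induction_on with
    | _ k ih =>
      intro i hi
      have h := hzero ((N - (k : ℤ)).toNat) (k : ℤ) (by omega) (by omega)
      simp only [y] at h
      rw [Finset.sum_eq_single i] at h
      · rw [hi, sub_self] at h
        exact hσ0.mul_left_eq_zero.1 h
      · intro j _ hj
        have hne : (j : ℕ) ≠ k := fun h' => hj (Fin.ext (h'.trans hi.symm))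
        rcases lt_or_gt_of_ne hne with hlt | hgt
        · rw [ih j hlt j rfl, zero_mul]
        · rw [show (k : ℤ) - (j : ℕ) = -(((j : ℕ) - k : ℕ) : ℤ) by omega,
            hneg _ (by omega) (by have := j.isLt; omega), mul_zero]
      · exact fun h' => absurd (Finset.mem_univ i) h'
  exact key _ i rfl

/-- A subgroup closed under the recurrence in both directions contains all twists. -/
theorem mem_of_recurrence (r : ℕ) (e : ℕ → A) (f : A →+* B) (p : ℤ → B) (he0 : e 0 = 1) (he : IsUnit (e (r + 1)))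
    (hrel : ∀ c : ℤ, ∑ j ∈ range (r + 2), (-1 : B) ^ j * f (e j) * p (c - j) = 0)
    (R : AddSubgroup B) (hR : ∀ (a : A) (i : ℕ), i ≤ r → f a * p (-(i : ℤ)) ∈ R) :
    ∀ (d : ℤ) (a : A), f a * p d ∈ R := by
  classical
  suffices h : ∀ d : ℤ, ∀ i : ℕ, i ≤ r → ∀ a : A, f a * p (d - i) ∈ R from fun d a => by
    simpa using h d 0 (Nat.zero_le _) a
  have hsgn : ∀ (j : ℕ) (b : B), b ∈ R → (-1 : B) ^ j * b ∈ R := fun j b hb => by
    rcases Nat.even_or_odd j with hj | hj
    · rwa [hj.neg_one_pow, one_mul]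
    · rw [hj.neg_one_pow, neg_one_mul]; exact R.neg_mem hb
  intro d
  induction d using Int.induction_on with
  | zero => intro i hi a; rw [zero_sub]; exact hR a i hi
  | succ d ih =>
    intro i hi a
    rcases Nat.eq_zero_or_pos i with rfl | hpos
    · have h := hrel ((d : ℤ) + 1)
      rw [Finset.sum_range_succ'] at h
      simp only [pow_zero, Nat.cast_zero, sub_zero, he0, map_one, one_mul] at h
      have h' : f a * p ((d : ℤ) + 1) =
          -∑ k ∈ range (r + 1), (-1 : B) ^ (k + 1) * (f (a * e (k + 1)) * p ((d : ℤ) - k)) := by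
        rw [eq_neg_iff_add_eq_zero]
        calc _ = f a * ((∑ k ∈ range (r + 1), (-1 : B) ^ (k + 1) * f (e (k + 1)) *
              p ((d : ℤ) + 1 - ((k + 1 : ℕ) : ℤ))) + p ((d : ℤ) + 1)) := by
              rw [mul_add, Finset.mul_sum, add_comm]
              congr 1
              refine Finset.sum_congr rfl fun k _ => ?_
              rw [map_mul, show (d : ℤ) + 1 - ((k + 1 : ℕ) : ℤ) = d - k by push_cast; ring]
              ring
          _ = 0 := by rw [h, mul_zero]
      rw [Nat.cast_zero, sub_zero, h']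
      exact R.neg_mem (sum_mem fun k hk => hsgn _ _ (ih k (by rw [Finset.mem_range] at hk; omega) _))
    · rw [show (d : ℤ) + 1 - (i : ℤ) = d - ((i - 1 : ℕ) : ℤ) by omega]
      exact ih _ (by omega) a
  | pred d ih =>
    intro i hi a
    rcases Nat.lt_or_ge i r with hlt | hge
    · rw [show -(d : ℤ) - 1 - (i : ℤ) = -(d : ℤ) - ((i + 1 : ℕ) : ℤ) by push_cast; ring]
      exact ih _ hlt a
    · rw [show i = r from le_antisymm hi hge]
      obtain ⟨v, hv⟩ := he
      have h := hrel (-(d : ℤ))
      rw [Finset.sum_range_succ] at h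
      have h' : f a * p (-(d : ℤ) - 1 - r) =
          -((-1 : B) ^ (r + 1) * ∑ k ∈ range (r + 1), (-1 : B) ^ k * (f (a * ↑v⁻¹ * e k) * p (-(d : ℤ) - k))) := by
        have h1 : (-1 : B) ^ (r + 1) * (-1 : B) ^ (r + 1) = 1 := by rw [← mul_pow]; simp
        have h2 : f (a * ↑v⁻¹) * f (e (r + 1)) = f a := by
          rw [← map_mul, ← hv, mul_assoc, Units.inv_mul, mul_one]
        have h3 := congrArg (fun b => (-1 : B) ^ (r + 1) * (f (a * ↑v⁻¹) * b)) h
        simp only [mul_zero, mul_add, Finset.mul_sum] at h3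
        rw [Finset.mul_sum, eq_neg_iff_add_eq_zero, show -(d : ℤ) - 1 - r = -(d : ℤ) - ((r + 1 : ℕ) : ℤ) by push_cast; ring]
        refine Eq.trans ?_ h3
        rw [add_comm]
        congr 1
        · refine Finset.sum_congr rfl fun k _ => ?_
          rw [map_mul]; ring
        · linear_combination (-(f a) * p (-(d : ℤ) - ((r + 1 : ℕ) : ℤ))) * h1 -
            ((-1 : B) ^ (r + 1) * (-1) ^ (r + 1) * p (-(d : ℤ) - ((r + 1 : ℕ) : ℤ))) * h2
      rw [h']
      exact R.neg_mem (hsgn _ _ (sum_mem fun k hk => hsgn _ _ (ih k (by rw [Finset.mem_range] at hk; omega) _)))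

end Groth.Agent.KPB28
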