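import Groth.Agent.KPB28.Reg

/-!
# Resolution of regular bundles by twisted pullbacks
-/

set_option autoImplicit false
set_option linter.style.haveILetI false
set_option backward.isDefEq.respectTransparency false

universe u

open CategoryTheory CategoryTheory.Limits AlgebraicGeometry TopologicalSpace Opposite
open Groth.Agent.Coherent
open scoped ZeroObject

noncomputable section

namespace Groth.Agent.KPB28

variable {P T : Scheme.{u}} {r : ℕ} {π : P ⟶ T} {L Li : P.Modules}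

/-- The kernel of the counit, twisted once. -/
abbrev stepP (π : P ⟶ T) (L Li : P.Modules) (M : P.Modules) : P.Modules :=
  tw L Li 1 (kernel ((Scheme.Modules.pullbackPushforwardAdjunction π).counit.app M))

/-- Iterated kernels. -/
def iterP (π : P ⟶ T) (L Li : P.Modules) (M : P.Modules) : ℕ → P.Modules
  | 0 => M
  | j + 1 => stepP π L Li (iterP π L Li M j)

theorem stepMod_iso {n : ℕ} {V : Scheme.{u}} {A B : (KRR.PY n V).Modules} (e : A ≅ B) :
    Nonempty (KPr28.stepMod A ≅ KPr28.stepMod B) := by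
  let adj := Scheme.Modules.pullbackPushforwardAdjunction (KRR.pr n V)
  exact ⟨((DCoh.tensorBi (X := KRR.PY n V)).obj _).mapIso (kernel.mapIso (adj.counit.app A) (adj.counit.app B)
    ((Scheme.Modules.pushforward (KRR.pr n V) ⋙ Scheme.Modules.pullback (KRR.pr n V)).mapIso e) e
    (adj.counit.naturality e.hom).symm)⟩

namespace Ctx

variable (H : Ctx r π L Li)
include H

theorem pullback_step {V : Scheme.{u}} {φ : V ⟶ T} [IsOpenImmersion φ] {ψ : KRR.PY r V ⟶ P}
    (hsq : IsPullback ψ (KRR.pr r V) π φ) (e : (Scheme.Modules.pullback ψ).obj L ≅ Twist.twistOver r V 1)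
    (M : P.Modules) [Coh.IsQCoh M] :
    Nonempty ((Scheme.Modules.pullback ψ).obj (stepP π L Li M) ≅
      KPr28.stepMod ((Scheme.Modules.pullback ψ).obj M)) := by
  haveI := H.loc.isProper
  haveI := KPr28.isOpenImmersion_of_sq hsq
  haveI := KPr28.isIso_bc0_of_sq hsq M
  obtain ⟨e₁⟩ := H.pullback_tw ψ e 1 (kernel ((Scheme.Modules.pullbackPushforwardAdjunction π).counit.app M))
  obtain ⟨c, hc⟩ := KPr28.exists_counit_fac hsq M
  let a := (Scheme.Modules.pullback (KRR.pr r V)).mapIso (asIso (CohBC.bc0 π φ (KRR.pr r V) ψ hsq.w M))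
  let k : kernel ((Scheme.Modules.pullback ψ).map ((Scheme.Modules.pullbackPushforwardAdjunction π).counit.app M)) ≅
      kernel ((Scheme.Modules.pullbackPushforwardAdjunction (KRR.pr r V)).counit.app
        ((Scheme.Modules.pullback ψ).obj M)) :=
    kernel.mapIso _ _ (c.symm ≪≫ a) (Iso.refl _) (by
      refine (Category.comp_id _).trans ?_
      rw [Iso.trans_hom, Category.assoc, Iso.symm_hom, Iso.eq_inv_comp]
      exact hc.symm)
  exact ⟨e₁ ≪≫ ((DCoh.tensorBi (X := KRR.PY r V)).obj _).mapIso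
    (PreservesKernel.iso (Scheme.Modules.pullback ψ) _ ≪≫ k)⟩

theorem step_bundle {M : P.Modules} (hM : FlatMod.IsFinLocFree M) (hr : Reg π L Li M) :
    FlatMod.IsFinLocFree (stepP π L Li M) ∧ Reg π L Li (stepP π L Li M) := by
  haveI := H.loc.isProper
  haveI : Coh.IsQCoh M := (Coherent.CohBC.isCoh_of_isFinLocFree hM).1
  haveI := H.epi_counit hM hr
  have h : FlatMod.IsFinLocFree (stepP π L Li M) := H.isFinLocFree_tw (KoszPn17.isFinLocFree_kernel
    ((Scheme.Modules.pullbackPushforwardAdjunction π).counit.app M)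
    (DCat.PullPerf.isFinLocFree_pullback π (H.isFinLocFree_push hM hr)) hM) 1
  haveI : Coh.IsQCoh (stepP π L Li M) := (Coherent.CohBC.isCoh_of_isFinLocFree h).1
  refine ⟨h, H.reg_of_charts _ fun V φ ψ hφ hV hsq e => ?_⟩
  obtain ⟨e'⟩ := H.pullback_step hsq e M
  exact KPr28.isRegSheaf_of_iso e'.symm
    (KPr28.regP_stepMod ⟨DCat.PullPerf.isFinLocFree_pullback ψ hM, H.reg_chart hsq e hr⟩).2

theorem iter_bundle {M : P.Modules} (hM : FlatMod.IsFinLocFree M) (hr : Reg π L Li M) :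
    ∀ j, FlatMod.IsFinLocFree (iterP π L Li M j) ∧ Reg π L Li (iterP π L Li M j)
  | 0 => ⟨hM, hr⟩
  | j + 1 => H.step_bundle (iter_bundle hM hr j).1 (iter_bundle hM hr j).2

theorem pullback_iter {V : Scheme.{u}} {φ : V ⟶ T} [IsOpenImmersion φ] {ψ : KRR.PY r V ⟶ P}
    (hsq : IsPullback ψ (KRR.pr r V) π φ) (e : (Scheme.Modules.pullback ψ).obj L ≅ Twist.twistOver r V 1)
    {M : P.Modules} (hM : FlatMod.IsFinLocFree M) (hr : Reg π L Li M) :
    ∀ j, Nonempty ((Scheme.Modules.pullback ψ).obj (iterP π L Li M j) ≅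
      KPr28.iterStep ((Scheme.Modules.pullback ψ).obj M) j) := by
  intro j
  induction j with
  | zero => exact ⟨Iso.refl _⟩
  | succ j ih =>
    haveI : Coh.IsQCoh (iterP π L Li M j) :=
      (Coherent.CohBC.isCoh_of_isFinLocFree (H.iter_bundle hM hr j).1).1
    obtain ⟨i₀⟩ := ih
    obtain ⟨e₁⟩ := H.pullback_step hsq e (iterP π L Li M j)
    obtain ⟨e₂⟩ := stepMod_iso i₀
    exact ⟨e₁ ≪≫ e₂⟩

theorem isZero_iter {M : P.Modules} (hM : FlatMod.IsFinLocFree M) (hr : Reg π L Li M) :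
    IsZero (iterP π L Li M (r + 1)) := by
  haveI := H.loc.isProper
  haveI : Coh.IsQCoh M := (Coherent.CohBC.isCoh_of_isFinLocFree hM).1
  have hz : Epi (0 : (0 : P.Modules) ⟶ iterP π L Li M (r + 1)) := by
    refine FlatMor12.FlatFun.epi_of_local _ fun z => ?_
    obtain ⟨V, φ, ψ, hφ, hV, hsq, ht, ⟨e⟩⟩ := H.loc.chart (π.base z)
    haveI := KPr28.isOpenImmersion_of_sq hsq
    obtain ⟨t, ht⟩ := ht
    obtain ⟨y, hy⟩ : z ∈ Set.range ψ.base := by
      have : z ∈ π ⁻¹ᵁ (φ ''ᵁ ⊤) := ⟨t, trivial, ht⟩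
      rw [← KPr28.image_preimage_of_sq hsq] at this
      obtain ⟨y, -, hy⟩ := this
      exact ⟨y, hy⟩
    refine ⟨_, ψ, y, inferInstance, hy, ?_⟩
    obtain ⟨e'⟩ := H.pullback_iter hsq e hM hr (r + 1)
    have hz' := (KPr28.isZero_iterStep (F := (Scheme.Modules.pullback ψ).obj M)
      ⟨DCat.PullPerf.isFinLocFree_pullback ψ hM, H.reg_chart hsq e hr⟩).of_iso e'
    exact ⟨fun g h _ => hz'.eq_of_src g h⟩
  exact IsZero.of_epi (0 : (0 : P.Modules) ⟶ iterP π L Li M (r + 1)) (isZero_zero _)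

/-- Regular bundles lie in every subgroup containing the twisted pullbacks. -/
theorem cl_mem_of_reg {M : P.Modules} (hM : FlatMod.IsFinLocFree M) (hr : Reg π L Li M)
    (A : AddSubgroup (SGA6.Kvb P))
    (hA : ∀ i : ℕ, i ≤ r → ∀ V : T.Modules, FlatMod.IsFinLocFree V →
      KRR.cl _ (tw L Li (-(i : ℤ)) ((Scheme.Modules.pullback π).obj V)) ∈ A) :
    KRR.cl _ M ∈ A := by
  suffices hs : ∀ k : ℕ, ∀ j, j + k = r + 1 → KRR.cl _ (tw L Li (-(j : ℤ)) (iterP π L Li M j)) ∈ A by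
    have h := hs (r + 1) 0 (by omega)
    obtain ⟨e⟩ := H.tw_zero M
    rw [show KRR.cl _ M = KRR.cl _ (tw L Li (-((0 : ℕ) : ℤ)) (iterP π L Li M 0)) from
      ExtFilt28.clv_iso (e.symm ≪≫ eqToIso (congrArg (fun d : ℤ => tw L Li d M)
        (show (0 : ℤ) = -((0 : ℕ) : ℤ) by norm_num)))]
    exact h
  intro k
  induction k with
  | zero =>
    intro j hj
    obtain rfl : j = r + 1 := by omega
    show KRR.cl _ _ ∈ A
    rw [show KRR.cl P (tw L Li (-((r + 1 : ℕ) : ℤ)) (iterP π L Li M (r + 1))) = 0 from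
      KPush28.clSub_of_isZero' (((DCoh.tensorBi (X := P)).obj _).map_isZero (H.isZero_iter hM hr))]
    exact A.zero_mem
  | succ k ih =>
    intro j hj
    let G := iterP π L Li M j
    obtain ⟨hG, hGr⟩ := H.iter_bundle hM hr j
    let c := (Scheme.Modules.pullbackPushforwardAdjunction π).counit.app G
    haveI hepi : Epi c := H.epi_counit hG hGr
    have hpl := DCat.PullPerf.isFinLocFree_pullback π (H.isFinLocFree_push hG hGr)
    have hK : FlatMod.IsFinLocFree (kernel c) := KoszPn17.isFinLocFree_kernel c hpl hG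
    have hS : (ShortComplex.mk (kernel.ι c) c (kernel.condition _)).ShortExact :=
      ShortComplex.ShortExact.mk' (ShortComplex.exact_of_f_is_kernel _ (kernelIsKernel _)) inferInstance hepi
    obtain ⟨S', hS', e₁, e₂, e₃⟩ := H.tw_ses hS (-(j : ℤ))
    have h := ExtFilt28.clv_ses hS' (e₁ ▸ H.isFinLocFree_tw hK _) (e₂ ▸ H.isFinLocFree_tw hpl _)
      (e₃ ▸ H.isFinLocFree_tw hG _)
    rw [e₁, e₂, e₃] at h
    obtain ⟨e⟩ := H.tw_tw (kernel c) (show -((j + 1 : ℕ) : ℤ) + 1 = -(j : ℤ) by push_cast; ring)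
    have hk1 : KRR.cl _ (tw L Li (-(j : ℤ)) (kernel c)) ∈ A :=
      (show KRR.cl P _ = KRR.cl P _ from ExtFilt28.clv_iso e) ▸ ih (j + 1) (by omega)
    have hk2 := A.sub_mem (hA j (by omega) _ (H.isFinLocFree_push hG hGr)) hk1
    rwa [show KRR.cl _ (tw L Li (-(j : ℤ)) G) = KRR.cl _ (tw L Li (-(j : ℤ)) ((Scheme.Modules.pullback π).obj
      ((Scheme.Modules.pushforward π).obj G))) - KRR.cl _ (tw L Li (-(j : ℤ)) (kernel c)) from
        eq_sub_of_add_eq' h.symm]

end Ctx

end Groth.Agent.KPB28
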