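import Groth.Agent.KPB28.Seq
import Groth.Agent.KPB28.Resolve
import Groth.Agent.KPB28.Alg
import Mathlib.Order.Filter.Germ.Basic

/-!
# The projective bundle formula for `K` of vector bundles
-/

set_option autoImplicit false
set_option linter.style.haveILetI false
set_option backward.isDefEq.respectTransparency false
set_option maxHeartbeats 1000000

universe u

open CategoryTheory CategoryTheory.Limits AlgebraicGeometry TopologicalSpace Opposite Filter
open Groth.Agent.Coherent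

noncomputable section

namespace Groth.Agent.KPB28

theorem alt_telescope {G : Type*} [CommRing G] (t b : ℕ → G) (h0 : t 0 = b 0) :
    ∀ n, (∀ i < n, t (i + 1) = b (i + 1) + b i) → ∑ j ∈ Finset.range (n + 1), (-1 : G) ^ j * t j = (-1) ^ n * b n
  | 0, _ => by simp [h0]
  | n + 1, h => by
    rw [Finset.sum_range_succ, alt_telescope t b h0 n (fun i hi => h i (by omega)), h n (by omega), pow_succ]
    ring

theorem isUnit_cl_line {X : Scheme.{u}} (mul : SGA6.Kvb X →+ SGA6.Kvb X →+ SGA6.Kvb X)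
    (hmul : ∀ E F, FlatMod.IsFinLocFree E → FlatMod.IsFinLocFree F →
      mul (KRR.cl X E) (KRR.cl X F) = KRR.cl X (CohB1.tensorMod E F))
    {M : X.Modules} (hM : PicF.IsInvertible M) :
    letI := KvbLam28.kvbRing mul hmul
    IsUnit (KRR.cl X M) := by
  letI := KvbLam28.kvbRing mul hmul
  obtain ⟨N, ⟨e⟩⟩ := VarietyLib.exists_isInverseOf hM
  have hN := Surf15.isInvertible_inverse hM ⟨e⟩
  exact IsUnit.of_mul_eq_one (KRR.cl X N)
    ((hmul M N (Coherent.isFinLocFree_of_invertible hM) (Coherent.isFinLocFree_of_invertible hN)).trans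
      (ExtFilt28.clv_iso e))

variable {P T : Scheme.{u}}

/-- `K` of bundles on a family of projective spaces with a tautological quotient is free on `r + 1`
consecutive powers of `O(1)`. -/
theorem bijective_powers' [CompactSpace T] {r : ℕ} {E : T.Modules} (hE : FlatMod.IsFinLocFreeOfRank (r + 1) E)
    {π : P ⟶ T} {O1 : P.Modules} (q : (Scheme.Modules.pullback π).obj E ⟶ O1) [Epi q]
    (hO1 : FlatMod.IsFinLocFreeOfRank 1 O1) {Li : P.Modules} (H : Ctx r π O1 Li) (m : ℤ)
    (A : Fin (r + 1) → (SGA6.Kvb T →+ SGA6.Kvb P))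
    (hA : ∀ (i : Fin (r + 1)) (V : T.Modules), FlatMod.IsFinLocFree V →
      A i (KRR.cl T V) = KRR.cl P (tw O1 Li (m - (i : ℕ)) ((Scheme.Modules.pullback π).obj V))) :
    Function.Bijective (fun x : Fin (r + 1) → SGA6.Kvb T => ∑ i, A i (x i)) := by
  classical
  have hinv := H.inverse
  obtain ⟨W, B, hW, hWp, hB, ⟨eB0⟩, hBtop, hseq⟩ := exists_seq' hE q hO1 H
  obtain ⟨mulP, hmulP⟩ := KvbLam28.exists_mul (X := P)
  obtain ⟨mulT, hmulT⟩ := KvbLam28.exists_mul (X := T)
  letI : CommRing (SGA6.Kvb P) := KvbLam28.kvbRing mulP hmulP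
  letI : CommRing (SGA6.Kvb T) := KvbLam28.kvbRing mulT hmulT
  have hP : ∀ M N : P.Modules, FlatMod.IsFinLocFree M → FlatMod.IsFinLocFree N →
      KRR.cl P M * KRR.cl P N = KRR.cl P (CohB1.tensorMod M N) := hmulP
  have hT : ∀ M N : T.Modules, FlatMod.IsFinLocFree M → FlatMod.IsFinLocFree N →
      KRR.cl T M * KRR.cl T N = KRR.cl T (CohB1.tensorMod M N) := hmulT
  obtain ⟨q0, hq0⟩ := KPull28.exists_pull π
  have hpl : ∀ {V : T.Modules}, FlatMod.IsFinLocFree V → FlatMod.IsFinLocFree ((Scheme.Modules.pullback π).obj V) :=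
    fun hV => DCat.PullPerf.isFinLocFree_pullback π hV
  have hq0one : q0 1 = 1 := (hq0 _ KvbLam28.isFinLocFree_structure).trans
    (ExtFilt28.clv_iso (PicLoc.pullbackStructureIso π))
  have hq0mul : ∀ x y, q0 (x * y) = q0 x * q0 y := fun x y => by
    refine KvbLam28.kvb_induction (P := fun x => q0 (x * y) = q0 x * q0 y) ?_ ?_ ?_ ?_ x
    · simp
    · intro V hV
      refine KvbLam28.kvb_induction (P := fun y => q0 (KRR.cl T V * y) = q0 (KRR.cl T V) * q0 y) ?_ ?_ ?_ ?_ y
      · simp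
      · intro V' hV'
        rw [hT V V' hV hV', hq0 _ (ExtFilt28.isFinLocFree_tensor hV hV'), hq0 V hV, hq0 V' hV', hP _ _ (hpl hV) (hpl hV')]
        exact ExtFilt28.clv_iso (DCat.PullTensor.pullTensorIso π V V')
      · intro a h; rw [mul_neg, map_neg, h, map_neg, mul_neg]
      · intro a b ha hb; rw [mul_add, map_add, ha, hb, map_add, mul_add]
    · intro a h; rw [neg_mul, map_neg, h, map_neg, neg_mul]
    · intro a b ha hb; rw [add_mul, map_add, ha, hb, map_add, add_mul]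
  let f : SGA6.Kvb T →+* SGA6.Kvb P :=
    { toFun := q0, map_one' := hq0one, map_mul' := hq0mul, map_zero' := map_zero q0, map_add' := map_add q0 }
  have hf : ∀ {V : T.Modules}, FlatMod.IsFinLocFree V →
      f (KRR.cl T V) = KRR.cl P ((Scheme.Modules.pullback π).obj V) := fun hV => hq0 _ hV
  let p : ℤ → SGA6.Kvb P := fun d => KRR.cl P (OP O1 Li d)
  have hpadd : ∀ a b, p a * p b = p (a + b) := fun a b => by
    obtain ⟨e⟩ := nonempty_OP_add H.loc.invertible hinv H.invInv (rfl : a + b = a + b)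
    exact (hP _ _ (H.isFinLocFree_OP a) (H.isFinLocFree_OP b)).trans (ExtFilt28.clv_iso e)
  have hp0 : p 0 = 1 := by
    obtain ⟨e⟩ := nonempty_OP_nat (Li := Li) H.loc.invertible 0
    exact ExtFilt28.clv_iso e
  have htw : ∀ {M : P.Modules}, FlatMod.IsFinLocFree M → ∀ d : ℤ, p d * KRR.cl P M = KRR.cl P (tw O1 Li d M) :=
    fun hM d => hP _ _ (H.isFinLocFree_OP d) hM
  have hfp : ∀ {V : T.Modules}, FlatMod.IsFinLocFree V → ∀ d : ℤ,
      f (KRR.cl T V) * p d = KRR.cl P (tw O1 Li d ((Scheme.Modules.pullback π).obj V)) := fun hV d => by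
    rw [hf hV, mul_comm, htw (hpl hV)]
  -- the relation
  let e : ℕ → SGA6.Kvb T := fun j => KRR.cl T (W j)
  obtain ⟨eW0⟩ := KvbLam28.exists_iso_of_isExtPow (hWp 0) (KvbLam28.isExtPow_zero _)
  have he0 : e 0 = 1 := ExtFilt28.clv_iso eW0
  have hetop : IsUnit (e (r + 1)) := by
    have h := rank_extPow (hWp (r + 1)) hE
    rw [Nat.choose_self] at h
    exact isUnit_cl_line mulT hmulT (KRRPBLib.isInvertible_of_rankOne h)
  have hrelB : ∀ c : ℤ, ∑ j ∈ Finset.range (r + 2), (-1 : SGA6.Kvb P) ^ j * f (e j) * p (c - j) = 0 := fun c => by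
    let b : ℕ → SGA6.Kvb P := fun i => KRR.cl P (tw O1 Li (c - i) (B i))
    have h := alt_telescope (fun j : ℕ => f (e j) * p (c - j)) b ?_ (r + 1) ?_
    · rw [show b (r + 1) = 0 from KPush28.clSub_of_isZero' (((DCoh.tensorBi (X := P)).obj _).map_isZero hBtop),
        mul_zero] at h
      refine Eq.trans (Finset.sum_congr rfl fun j _ => ?_) h
      exact mul_assoc _ _ _
    · show f (e 0) * p (c - ((0 : ℕ) : ℤ)) = b 0
      rw [he0, map_one, one_mul]
      exact (ExtFilt28.clv_iso (AmpleLib.tensorIso (Iso.refl _) eB0 ≪≫ AmpleLib.tensorComm _ _ ≪≫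
        AmpleLib.unitTensorIso _)).symm
    · intro i _
      obtain ⟨S, hS, ⟨e₁⟩, ⟨e₂⟩, ⟨e₃⟩⟩ := hseq i (c - ((i + 1 : ℕ) : ℤ))
      have h1 := FlatMorAdm.isFinLocFree_of_iso e₁.symm (H.isFinLocFree_tw (hB _) _)
      have h2 := FlatMorAdm.isFinLocFree_of_iso e₂.symm (H.isFinLocFree_tw (hpl (hW _)) _)
      have h3 := FlatMorAdm.isFinLocFree_of_iso e₃.symm (H.isFinLocFree_tw (hB _) _)
      have h := ExtFilt28.clv_ses hS h1 h2 h3
      rw [ExtFilt28.clv_iso e₁, ExtFilt28.clv_iso e₂, ExtFilt28.clv_iso e₃] at h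
      show f (e (i + 1)) * p (c - ((i + 1 : ℕ) : ℤ)) = b (i + 1) + b i
      rw [hfp (hW (i + 1))]
      refine h.trans (congrArg₂ (· + ·) rfl (congrArg (fun d : ℤ => KRR.cl P (tw O1 Li d (B i))) ?_))
      push_cast; ring
  -- direct images
  let σ : ℤ → SGA6.Kvb T := fun d => KRR.cl T ((Scheme.Modules.pushforward π).obj (OP O1 Li d))
  have hpush : ∀ {V : T.Modules}, FlatMod.IsFinLocFree V → ∀ d : ℤ, -(r : ℤ) ≤ d →
      KRR.cl T ((Scheme.Modules.pushforward π).obj (tw O1 Li d ((Scheme.Modules.pullback π).obj V))) =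
        KRR.cl T V * σ d := fun {V} hV d hd => by
    obtain ⟨i⟩ := nonempty_push_tensor_pull π (OP O1 Li d) hV
    rw [mul_comm, hT _ _ (H.isFinLocFree_push_OP hd) hV]
    exact ExtFilt28.clv_iso i
  have hσ0 : IsUnit (σ 0) := by
    obtain ⟨e'⟩ := nonempty_OP_nat (Li := Li) H.loc.invertible 0
    exact isUnit_cl_line mulT hmulT (KRRPBLib.isInvertible_of_rankOne
      (KModel28.rank_iso ((Scheme.Modules.pushforward π).mapIso e'.symm) H.rankOne_push_structure))
  have hneg : ∀ k : ℕ, 1 ≤ k → k ≤ r → σ (-(k : ℤ)) = 0 := fun k h1 h2 =>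
    KPush28.clSub_of_isZero' (isZero_push_of_vanP (H.vanP_OP 0 _ (Or.inr ⟨by omega, by omega⟩)))
  have hrelA : ∀ c : ℤ, 1 ≤ c → ∑ j ∈ Finset.range (r + 2), (-1 : SGA6.Kvb T) ^ j * e j * σ (c - j) = 0 := by
    intro c hc
    let D : ℕ → P.Modules := fun i => tw O1 Li (c - i) (B i)
    have hDtop : IsZero (D (r + 1)) := ((DCoh.tensorBi (X := P)).obj _).map_isZero hBtop
    have hvan : ∀ k i : ℕ, i + k = r + 1 → ∀ q : ℕ, 1 ≤ q → VanP π q (D i) := by
      intro k
      induction k with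
      | zero =>
        intro i hi q _
        obtain rfl : i = r + 1 := by omega
        exact (Coh.RpushAb π q).map_isZero ((toAbFunctor P).map_isZero hDtop)
      | succ k ih =>
        intro i hi q hq
        obtain ⟨S, hS, ⟨e₁⟩, ⟨e₂⟩, ⟨e₃⟩⟩ := hseq i (c - ((i + 1 : ℕ) : ℤ))
        refine vanP_of_iso (e₃ ≪≫ eqToIso (congrArg (fun d : ℤ => tw O1 Li d (B i)) (by push_cast; ring))) ?_
        exact vanP_X₃ hS q (vanP_of_iso e₂.symm (H.vanP_twPull (hW _) q _ (Or.inl ⟨hq, by omega⟩)))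
          (vanP_of_iso e₁.symm (ih (i + 1) (by omega) (q + 1) (by omega)))
    let g : ℕ → SGA6.Kvb T := fun i => KRR.cl T ((Scheme.Modules.pushforward π).obj (D i))
    have hD0 : D 0 ≅ OP O1 Li c := AmpleLib.tensorIso (eqToIso (congrArg (OP O1 Li) (by simp))) eB0 ≪≫
      AmpleLib.tensorComm _ _ ≪≫ AmpleLib.unitTensorIso _
    have hstep : ∀ i, i ≤ r + 1 → FlatMod.IsFinLocFree ((Scheme.Modules.pushforward π).obj (D i)) ∧
        ∀ j, j < i → e (j + 1) * σ (c - (j + 1 : ℕ)) = g (j + 1) + g j := by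
      intro i
      induction i with
      | zero => exact fun _ => ⟨FlatMorAdm.isFinLocFree_of_iso ((Scheme.Modules.pushforward π).mapIso hD0.symm)
          (H.isFinLocFree_push_OP (by omega)), fun j hj => absurd hj (Nat.not_lt_zero j)⟩
      | succ i ih =>
        intro hi
        obtain ⟨hfi, hrest⟩ := ih (by omega)
        obtain ⟨S, hS, ⟨e₁⟩, ⟨e₂⟩, ⟨e₃⟩⟩ := hseq i (c - ((i + 1 : ℕ) : ℤ))
        have e₃' : S.X₃ ≅ D i := e₃ ≪≫ eqToIso (congrArg (fun d : ℤ => tw O1 Li d (B i)) (by push_cast; ring))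
        have hS' := shortExact_push hS (vanP_of_iso e₁.symm (hvan (r + 1 - (i + 1)) (i + 1) (by omega) 1 le_rfl))
        let F := Scheme.Modules.pushforward π
        have h3 := FlatMorAdm.isFinLocFree_of_iso (F.mapIso e₃'.symm) hfi
        have h2 : FlatMod.IsFinLocFree (F.obj S.X₂) := FlatMorAdm.isFinLocFree_of_iso (F.mapIso e₂.symm)
          (H.isFinLocFree_push_twPull (hW _) (by omega))
        haveI := hS'.epi_g
        have h1 : FlatMod.IsFinLocFree (F.obj S.X₁) := FlatMorAdm.isFinLocFree_of_iso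
          (IsLimit.conePointUniqueUpToIso (kernelIsKernel (S.map F).g) hS'.fIsKernel)
          (KoszPn17.isFinLocFree_kernel (S.map F).g h2 h3)
        refine ⟨FlatMorAdm.isFinLocFree_of_iso (F.mapIso e₁) h1, fun j hj => ?_⟩
        rcases Nat.lt_succ_iff_lt_or_eq.1 hj with hj | rfl
        · exact hrest j hj
        · refine (hpush (hW (j + 1)) _ (by omega)).symm.trans ((ExtFilt28.clv_iso (F.mapIso e₂)).symm.trans ?_)
          refine (ExtFilt28.clv_ses hS' h1 h2 h3).trans ?_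
          exact congrArg₂ (· + ·) (ExtFilt28.clv_iso (F.mapIso e₁)) (ExtFilt28.clv_iso (F.mapIso e₃'))
    have h := alt_telescope (fun j : ℕ => e j * σ (c - j)) g ?_ (r + 1) (fun i hi => (hstep (r + 1) le_rfl).2 i hi)
    · rw [show g (r + 1) = 0 from KPush28.clSub_of_isZero' ((Scheme.Modules.pushforward π).map_isZero hDtop),
        mul_zero] at h
      refine Eq.trans (Finset.sum_congr rfl fun j _ => ?_) h
      exact mul_assoc _ _ _
    · show e 0 * σ (c - ((0 : ℕ) : ℤ)) = g 0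
      rw [he0, one_mul, Nat.cast_zero, sub_zero]
      exact (ExtFilt28.clv_iso ((Scheme.Modules.pushforward π).mapIso hD0)).symm
  -- germs of direct images of twists
  obtain ⟨Φ, hΦ⟩ := KvbLam28.exists_lift (X := P) (G := (atTop : Filter ℤ).Germ (SGA6.Kvb T))
    (fun M => ↑(fun c : ℤ => KRR.cl T ((Scheme.Modules.pushforward π).obj (tw O1 Li c M)))) fun S hS h₁ h₂ h₃ => by
      obtain ⟨N₁, hN₁⟩ := H.exists_bound h₁
      obtain ⟨N₂, hN₂⟩ := H.exists_bound h₂
      obtain ⟨N₃, hN₃⟩ := H.exists_bound h₃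
      refine Germ.coe_eq.2 ?_
      filter_upwards [eventually_ge_atTop (((N₁ + N₂ + N₃ : ℕ) : ℤ))] with c hc
      obtain ⟨S', hS', x₁, x₂, x₃⟩ := H.tw_ses hS c
      have r₁ := hN₁ c (by omega)
      haveI : Coh.IsQCoh (tw O1 Li c S.X₁) :=
        (Coherent.CohBC.isCoh_of_isFinLocFree (H.isFinLocFree_tw h₁ c)).1
      have hS'' := shortExact_push hS' (by rw [x₁]; exact H.vanP_of_reg r₁ 1 le_rfl)
      have hh := ExtFilt28.clv_ses hS''
        (show FlatMod.IsFinLocFree ((Scheme.Modules.pushforward π).obj S'.X₁) by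
          rw [x₁]; exact H.isFinLocFree_push (H.isFinLocFree_tw h₁ c) r₁)
        (show FlatMod.IsFinLocFree ((Scheme.Modules.pushforward π).obj S'.X₂) by
          rw [x₂]; exact H.isFinLocFree_push (H.isFinLocFree_tw h₂ c) (hN₂ c (by omega)))
        (show FlatMod.IsFinLocFree ((Scheme.Modules.pushforward π).obj S'.X₃) by
          rw [x₃]; exact H.isFinLocFree_push (H.isFinLocFree_tw h₃ c) (hN₃ c (by omega)))
      refine Eq.trans ?_ (hh.trans ?_)
      · show _ = KRR.cl T ((Scheme.Modules.pushforward π).obj S'.X₂); rw [x₂]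
      · show KRR.cl T ((Scheme.Modules.pushforward π).obj S'.X₁) +
          KRR.cl T ((Scheme.Modules.pushforward π).obj S'.X₃) = _
        rw [x₁, x₃]
  have hΦp : ∀ (x : SGA6.Kvb T) (d : ℤ),
      Φ (f x * p d) = ((fun c : ℤ => x * σ (c + d) : ℤ → SGA6.Kvb T) : (atTop : Filter ℤ).Germ _) := by
    intro x d
    refine KvbLam28.kvb_induction (P := fun x => Φ (f x * p d) =
      ((fun c : ℤ => x * σ (c + d) : ℤ → SGA6.Kvb T) : (atTop : Filter ℤ).Germ _)) ?_ ?_ ?_ ?_ x
    · simp only [map_zero, zero_mul]; rfl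
    · intro V hV
      rw [hfp hV]
      refine (hΦ _ (H.isFinLocFree_tw (hpl hV) d)).trans (Germ.coe_eq.2 ?_)
      filter_upwards [eventually_ge_atTop (-(r : ℤ) - d)] with c hc
      obtain ⟨i⟩ := H.tw_tw ((Scheme.Modules.pullback π).obj V) (rfl : c + d = c + d)
      exact (ExtFilt28.clv_iso ((Scheme.Modules.pushforward π).mapIso i)).trans (hpush hV _ (by omega))
    · intro a h; simp only [map_neg, neg_mul, h]; rfl
    · intro a b ha hb; simp only [map_add, add_mul, ha, hb]; rfl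
  -- conclusion
  have hA' : ∀ (i : Fin (r + 1)) (x : SGA6.Kvb T), A i x = p m * (f x * p (-((i : ℕ) : ℤ))) := by
    intro i x
    refine KvbLam28.kvb_induction (P := fun x => A i x = p m * (f x * p (-((i : ℕ) : ℤ)))) ?_ ?_ ?_ ?_ x
    · simp
    · intro V hV
      rw [hA i V hV, ← hfp hV, sub_eq_add_neg, ← hpadd]; ring
    · intro a h; rw [map_neg, h, map_neg]; ring
    · intro a b ha hb; rw [map_add, ha, hb, map_add]; ring
  let Ψ : (Fin (r + 1) → SGA6.Kvb T) →+ SGA6.Kvb P :=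
    AddMonoidHom.mk' (fun x => ∑ i, f (x i) * p (-((i : ℕ) : ℤ))) fun x y => by
      simp only [Pi.add_apply, map_add, add_mul, Finset.sum_add_distrib]
  have hcomp : (fun x : Fin (r + 1) → SGA6.Kvb T => ∑ i, A i (x i)) = (fun b => p m * b) ∘ Ψ := by
    funext x
    simp only [Ψ, Function.comp_apply, AddMonoidHom.mk'_apply, Finset.mul_sum, hA']
  have hmul' : Function.Bijective fun b : SGA6.Kvb P => p m * b :=
    Function.bijective_iff_has_inverse.2 ⟨fun b => p (-m) * b,
      fun b => by show p (-m) * (p m * b) = b; rw [← mul_assoc, hpadd, neg_add_cancel, hp0, one_mul],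
      fun b => by show p m * (p (-m) * b) = b; rw [← mul_assoc, hpadd, add_neg_cancel, hp0, one_mul]⟩
  rw [hcomp]
  refine hmul'.comp ⟨(injective_iff_map_eq_zero Ψ).2 fun x hx => ?_, fun b => ?_⟩
  · refine eq_zero_of_recurrence r e σ hσ0 hneg hetop hrelA x ?_
    have h := congrArg Φ hx
    simp only [Ψ, AddMonoidHom.mk'_apply, map_sum, map_zero, hΦp] at h
    have hco : ∀ (s : Finset (Fin (r + 1))) (F : Fin (r + 1) → ℤ → SGA6.Kvb T),
        ∑ i ∈ s, ((F i : ℤ → SGA6.Kvb T) : (atTop : Filter ℤ).Germ (SGA6.Kvb T)) = ↑(∑ i ∈ s, F i) := fun s F =>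
      (map_sum (Germ.coeAddHom (atTop : Filter ℤ) (M := SGA6.Kvb T)) F s).symm
    rw [hco] at h
    filter_upwards [Germ.coe_eq.1 (h.trans Germ.coe_zero.symm)] with c hc
    simpa [Finset.sum_apply, sub_eq_add_neg] using hc
  · -- surjectivity
    let R := Ψ.range
    have hR : ∀ (a : SGA6.Kvb T) (i : ℕ), i ≤ r → f a * p (-(i : ℤ)) ∈ R := fun a i hi =>
      ⟨Pi.single (M := fun _ : Fin (r + 1) => SGA6.Kvb T) ⟨i, Nat.lt_succ_of_le hi⟩ a, by
        show ∑ j : Fin (r + 1), f (Pi.single (M := fun _ : Fin (r + 1) => SGA6.Kvb T) ⟨i, Nat.lt_succ_of_le hi⟩ a j) *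
          p (-((j : ℕ) : ℤ)) = _
        rw [Finset.sum_eq_single ⟨i, Nat.lt_succ_of_le hi⟩ (fun j _ hj => by rw [Pi.single_eq_of_ne hj, map_zero, zero_mul])
          (fun h => absurd (Finset.mem_univ _) h), Pi.single_eq_same]⟩
    have hall := mem_of_recurrence r e f p he0 hetop hrelB R hR
    show b ∈ R
    refine KvbLam28.kvb_induction (P := fun b => b ∈ R) R.zero_mem ?_ (fun a h => R.neg_mem h)
      (fun a a' h h' => R.add_mem h h') b
    intro M hM
    obtain ⟨N, hN⟩ := H.exists_bound hM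
    let Aux : AddSubgroup (SGA6.Kvb P) := R.comap (AddMonoidHom.mulRight (p (-(N : ℤ))))
    have h := H.cl_mem_of_reg (H.isFinLocFree_tw hM _) (hN N le_rfl) Aux fun i _ V hV => by
      show KRR.cl P _ * p (-(N : ℤ)) ∈ R
      rw [← hfp hV, mul_assoc, hpadd]
      exact hall _ _
    change KRR.cl P _ * p (-(N : ℤ)) ∈ R at h
    rwa [← htw hM, mul_right_comm, hpadd, add_neg_cancel, hp0, one_mul] at h

/-- `K` of bundles on `P(E)` is free on `r + 1` consecutive powers of `O(1)`. -/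
theorem bijective_powers [CompactSpace T] {r : ℕ} {E : T.Modules} (hE : FlatMod.IsFinLocFreeOfRank (r + 1) E)
    {π : P ⟶ T} {O1 : P.Modules} {q : (Scheme.Modules.pullback π).obj E ⟶ O1}
    (hPB : KRR.IsProjBundle π E O1 q) {Li : P.Modules} (hinv : ClSub.IsInverseOf Li O1) (m : ℤ)
    (A : Fin (r + 1) → (SGA6.Kvb T →+ SGA6.Kvb P))
    (hA : ∀ (i : Fin (r + 1)) (V : T.Modules), FlatMod.IsFinLocFree V →
      A i (KRR.cl T V) = KRR.cl P (tw O1 Li (m - (i : ℕ)) ((Scheme.Modules.pullback π).obj V))) :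
    Function.Bijective (fun x : Fin (r + 1) → SGA6.Kvb T => ∑ i, A i (x i)) :=
  haveI := hPB.epi
  bijective_powers' hE q hPB.invertible (ctx_of_isProjBundle hE hPB hinv) m A hA

end Groth.Agent.KPB28
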