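import Groth.Agent.ExtFilt28.Main
import Groth.Agent.ExtPowEx28.Pull
import Groth.Agent.KModel28.Basic
import Groth.Agent.KvbLam28.Basic

/-!
# Exterior powers of an extension by a line bundle
-/

set_option autoImplicit false
set_option linter.style.haveILetI false
set_option backward.isDefEq.respectTransparency.types false
set_option maxHeartbeats 1000000

universe u

open CategoryTheory CategoryTheory.Limits AlgebraicGeometry Opposite TopologicalSpace
open Groth.Agent.Coherent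

noncomputable section

namespace Groth.Agent.KPB28

variable {X : Scheme.{u}}

theorem rank_extPow {E L : X.Modules} {n i : ℕ} (h : ExtPow.IsExtPow i E L)
    (hE : FlatMod.IsFinLocFreeOfRank n E) : FlatMod.IsFinLocFreeOfRank (n.choose i) L := by
  obtain ⟨φ, hφ⟩ := h
  have h := GrassLib.PBundle.isFinLocFreeOfRank_extPow φ hφ hE
  rwa [show Fintype.card (Set.powersetCard (Fin n) i) = n.choose i by
    rw [← Nat.card_eq_fintype_card, Set.powersetCard.card, Nat.card_eq_fintype_card, Fintype.card_fin]] at h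

/-- `0 → Λ^{n+1}H → Λ^{n+1}E → Λ^n H ⊗ N → 0` for an extension of a line bundle `N` by `H`. -/
theorem exists_ses_extPow_line {S : ShortComplex X.Modules} (hS : S.ShortExact)
    (h₁ : FlatMod.IsFinLocFree S.X₁) (h₃ : FlatMod.IsFinLocFreeOfRank 1 S.X₃) (n : ℕ)
    {A B C : X.Modules} (hA : ExtPow.IsExtPow (n + 1) S.X₁ A) (hB : ExtPow.IsExtPow (n + 1) S.X₂ B)
    (hC : ExtPow.IsExtPow n S.X₁ C) :
    ∃ T : ShortComplex X.Modules, T.ShortExact ∧ Nonempty (T.X₁ ≅ A) ∧ Nonempty (T.X₂ ≅ B) ∧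
      Nonempty (T.X₃ ≅ CohB1.tensorMod C S.X₃) := by
  have h₃' := VarietyLib.isFinLocFree_of_rank h₃
  have h₂ := ExtFilt28.isFinLocFree_extension hS h₁ h₃'
  choose L' hL' hp' using fun i => ExtPowEx28.exists_isExtPow h₁ i
  choose L hL hp using fun i => ExtPowEx28.exists_isExtPow h₂ i
  choose L'' hL'' hp'' using fun i => ExtPowEx28.exists_isExtPow h₃' i
  choose φ' c' using hp'
  choose φ c using hp
  choose φ'' c'' using hp''
  haveI : ∀ i, Coh.IsQCoh (L' i) := fun i => CAlgH3.LocFreeFactor.isQCoh_of_finLocFree (hL' i)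
  haveI : ∀ i, Coh.IsQCoh (L i) := fun i => CAlgH3.LocFreeFactor.isQCoh_of_finLocFree (hL i)
  haveI : ∀ i, Coh.IsQCoh (L'' i) := fun i => CAlgH3.LocFreeFactor.isQCoh_of_finLocFree (hL'' i)
  -- the steps of the filtration above the first one agree
  have hzero : ∀ i j : ℕ, IsZero (CohB1.tensorMod (L' i) (L'' (j + 2))) := fun i j => by
    have hr := rank_extPow (⟨φ'' (j + 2), c'' (j + 2)⟩ : ExtPow.IsExtPow (j + 2) S.X₃ (L'' (j + 2))) h₃
    rw [Nat.choose_eq_zero_of_lt (by omega)] at hr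
    exact ((DCoh.tensorBi (X := X)).obj (L' i)).map_isZero (KModel28.isZero_of_rank_zero hr)
  have hiso : ∀ (j i : ℕ) (h : i + (j + 1) = n + 1),
      Nonempty (ExtFilt28.Fil φ' φ c' c h ≅ ExtFilt28.Fil φ' φ c' c (show n + (0 + 1) = n + 1 from rfl)) := by
    intro j
    induction j with
    | zero =>
      intro i h
      obtain rfl : i = n := by omega
      exact ⟨Iso.refl _⟩
    | succ j ih =>
      intro i h
      have h' : i + 1 + (j + 1) = n + 1 := by omega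
      obtain ⟨w, hw⟩ := ExtFilt28.exists_step hS h₁ h₃' φ' φ φ'' c' c c'' h h'
      haveI : IsIso (ExtFilt28.incl hS h₁ h₃' φ' φ c' c h h') :=
        hw.isIso_f_iff.2 (hzero i j)
      obtain ⟨e⟩ := ih (i + 1) h'
      exact ⟨(asIso (ExtFilt28.incl hS h₁ h₃' φ' φ c' c h h')).symm ≪≫ e⟩
  have hsurj : Epi (ExtFilt28.muH φ' φ c' c (zero_add (n + 1))) := epi_of_locally_surjective _ fun W a y hy => by
    obtain ⟨V, hyV, hVW, -⟩ := ExtFilt28.exists_good hS h₁ h₃' W y hy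
    obtain ⟨b, hb⟩ := ExtFilt28.muSec_zero_surjective φ' φ (V := V) (resM _ hVW a)
    exact ⟨V.1, hVW, hyV, b, (ExtFilt28.muH_app φ' φ c' c (zero_add (n + 1)) V b).trans hb⟩
  haveI : IsIso (Abelian.image.ι (ExtFilt28.muH φ' φ c' c (zero_add (n + 1)))) := by
    haveI : Epi (Abelian.image.ι (ExtFilt28.muH φ' φ c' c (zero_add (n + 1)))) :=
      epi_of_epi_fac (Abelian.image.fac (ExtFilt28.muH φ' φ c' c (zero_add (n + 1))))
    exact isIso_of_mono_of_epi _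
  obtain ⟨eTop⟩ := hiso n 0 (zero_add (n + 1))
  obtain ⟨w, hw⟩ := ExtFilt28.exists_step hS h₁ h₃' φ' φ φ'' c' c c''
    (show n + (0 + 1) = n + 1 from rfl) (show n + 1 + 0 = n + 1 from rfl)
  haveI := ExtFilt28.isIso_toQ_zero hS h₁ h₃' φ' φ φ'' c' c c'' (show n + 1 + 0 = n + 1 from rfl)
  obtain ⟨z0⟩ := KvbLam28.exists_iso_of_isExtPow ⟨φ'' 0, c'' 0⟩ (KvbLam28.isExtPow_zero S.X₃)
  obtain ⟨z1⟩ := KvbLam28.exists_iso_of_isExtPow ⟨φ'' (0 + 1), c'' (0 + 1)⟩ (KvbLam28.isExtPow_one S.X₃)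
  obtain ⟨eA⟩ := KvbLam28.exists_iso_of_isExtPow ⟨φ' (n + 1), c' (n + 1)⟩ hA
  obtain ⟨eB⟩ := KvbLam28.exists_iso_of_isExtPow ⟨φ (n + 1), c (n + 1)⟩ hB
  obtain ⟨eC⟩ := KvbLam28.exists_iso_of_isExtPow ⟨φ' n, c' n⟩ hC
  refine ⟨_, hw, ⟨?_⟩, ⟨?_⟩, ⟨AmpleLib.tensorIso eC z1⟩⟩
  · exact asIso (ExtFilt28.toQ hS h₁ h₃' φ' φ φ'' c' c c'' (show n + 1 + 0 = n + 1 from rfl)) ≪≫
      AmpleLib.tensorIso eA z0 ≪≫ AmpleLib.tensorComm _ _ ≪≫ AmpleLib.unitTensorIso A
  · exact eTop.symm ≪≫ asIso (Abelian.image.ι (ExtFilt28.muH φ' φ c' c (zero_add (n + 1)))) ≪≫ eB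

end Groth.Agent.KPB28
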