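import Groth.Agent.KPB28.Loc
import Groth.Agent.KModel28.Basic
import Groth.Agent.VarietyLib.DetDeg

/-!
# Regular bundles on a family which is locally projective space
-/

set_option autoImplicit false
set_option linter.style.haveILetI false
set_option backward.isDefEq.respectTransparency false

universe u

open CategoryTheory CategoryTheory.Limits AlgebraicGeometry TopologicalSpace Opposite
open Groth.Agent.Coherent

noncomputable section

namespace Groth.Agent.KPB28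

variable {P T : Scheme.{u}} {r : ℕ} {π : P ⟶ T} {L Li : P.Modules}

/-- Being locally free of a given rank is local. -/
theorem isFinLocFreeOfRank_of_local {X : Scheme.{u}} {n : ℕ} (M : X.Modules)
    (h : ∀ x : X, ∃ (W : Scheme.{u}) (k : W ⟶ X) (_ : IsOpenImmersion k),
      x ∈ k.opensRange ∧ FlatMod.IsFinLocFreeOfRank n ((Scheme.Modules.restrictFunctor k).obj M)) :
    FlatMod.IsFinLocFreeOfRank n M := by
  intro x
  obtain ⟨W, k, _, ⟨y, rfl⟩, hW⟩ := h x
  obtain ⟨U, hyU, ⟨e⟩⟩ := hW y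
  let j := U.ι ≫ k
  obtain ⟨ef⟩ := DCat.PerfTensor.nonempty_pullback_free j.isoOpensRange.inv n
  refine ⟨j.opensRange, ⟨⟨y, hyU⟩, rfl⟩, ⟨?_⟩⟩
  exact (Scheme.Modules.restrictFunctorCongr j.isoOpensRange_inv_comp.symm).app M ≪≫
    (Scheme.Modules.restrictFunctorComp j.isoOpensRange.inv j).app M ≪≫
    (Scheme.Modules.restrictFunctorIsoPullback j.isoOpensRange.inv).app _ ≪≫
    (Scheme.Modules.pullback j.isoOpensRange.inv).mapIso
      ((Scheme.Modules.restrictFunctorComp U.ι k).app M ≪≫ e) ≪≫ ef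

/-- The standing hypotheses. -/
structure Ctx (r : ℕ) (π : P ⟶ T) (L Li : P.Modules) : Prop where
  loc : LocPn r π L
  invInv : PicF.IsInvertible Li
  inverse : ClSub.IsInverseOf Li L

/-- `R^q π_* M = 0`. -/
abbrev VanP (π : P ⟶ T) (q : ℕ) (M : P.Modules) : Prop := IsZero ((Coh.RpushAb π q).obj (Coh.toAb M))

/-- Castelnuovo–Mumford regularity relative to `π`. -/
def Reg (π : P ⟶ T) (L Li : P.Modules) (M : P.Modules) : Prop := ∀ i : ℕ, 1 ≤ i → VanP π i (tw L Li (-(i : ℤ)) M)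

theorem vanP_of_iso {q : ℕ} {M M' : P.Modules} (e : M ≅ M') (h : VanP π q M) : VanP π q M' :=
  h.of_iso ((Coh.RpushAb π q).mapIso ((toAbFunctor P).mapIso e.symm))

namespace Ctx

variable (H : Ctx r π L Li)
include H

theorem isFinLocFree_OP (d : ℤ) : FlatMod.IsFinLocFree (OP L Li d) :=
  Coherent.isFinLocFree_of_invertible (isInvertible_inverse H.loc.invertible H.inverse H.invInv d)

theorem isFinLocFree_tw {M : P.Modules} (hM : FlatMod.IsFinLocFree M) (d : ℤ) :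
    FlatMod.IsFinLocFree (tw L Li d M) :=
  ExtFilt28.isFinLocFree_tensor (H.isFinLocFree_OP d) hM

theorem isQCoh_tw {M : P.Modules} [Coh.IsQCoh M] (d : ℤ) : Coh.IsQCoh (tw L Li d M) :=
  haveI : Coh.IsQCoh (OP L Li d) := (Coherent.CohBC.isCoh_of_isFinLocFree (H.isFinLocFree_OP d)).1
  Coherent.isQCoh_tensorMod _ _

theorem tw_tw (M : P.Modules) {a b c : ℤ} (h : a + b = c) : Nonempty (tw L Li a (tw L Li b M) ≅ tw L Li c M) :=
  nonempty_tw_tw H.loc.invertible H.inverse H.invInv M h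

theorem tw_zero (M : P.Modules) : Nonempty (tw L Li 0 M ≅ M) := nonempty_tw_zero H.loc.invertible M

theorem tw_ses {S : ShortComplex P.Modules} (hS : S.ShortExact) (d : ℤ) :
    ∃ S' : ShortComplex P.Modules, S'.ShortExact ∧ S'.X₁ = tw L Li d S.X₁ ∧
      S'.X₂ = tw L Li d S.X₂ ∧ S'.X₃ = tw L Li d S.X₃ := by
  let F := Coherent.tensE (OP L Li d)
  haveI : PreservesFiniteLimits F := Coherent.preservesFiniteLimits_tensE (H.isFinLocFree_OP d)
  haveI : PreservesFiniteColimits F := Coherent.preservesFiniteColimits_tensE (H.isFinLocFree_OP d)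
  haveI : F.Additive := Functor.additive_of_preserves_binary_products F
  exact ⟨S.map F, hS.map_of_exact F, rfl, rfl, rfl⟩

/-- Twists on a chart. -/
theorem pullback_tw {V : Scheme.{u}} (ψ : KRR.PY r V ⟶ P)
    (e : (Scheme.Modules.pullback ψ).obj L ≅ Twist.twistOver r V 1) (d : ℤ) (M : P.Modules) :
    Nonempty ((Scheme.Modules.pullback ψ).obj (tw L Li d M) ≅
      KRR.twF r V d ((Scheme.Modules.pullback ψ).obj M)) := by
  obtain ⟨eo⟩ := nonempty_pullback_OP ψ e H.invInv H.inverse d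
  exact ⟨DCat.PullTensor.pullTensorIso ψ _ _ ≪≫ AmpleLib.tensorIso eo (Iso.refl _)⟩

/-- Checking vanishing on charts. -/
theorem vanP_of_charts (M : P.Modules) [Coh.IsQCoh M] (q : ℕ)
    (h : ∀ (V : Scheme.{u}) (φ : V ⟶ T) (ψ : KRR.PY r V ⟶ P), IsOpenImmersion φ → IsAffine V →
      IsPullback ψ (KRR.pr r V) π φ → ((Scheme.Modules.pullback ψ).obj L ≅ Twist.twistOver r V 1) →
      KPr28.Van q ((Scheme.Modules.pullback ψ).obj M)) : VanP π q M := by
  haveI := H.loc.isProper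
  refine KPr28.isZero_rpushAb_of_cover M q fun t => ?_
  obtain ⟨V, φ, ψ, hφ, hV, hsq, ht, ⟨e⟩⟩ := H.loc.chart t
  exact ⟨_, _, ψ, _, φ, hφ, hsq, ht, h V φ ψ hφ hV hsq e⟩

theorem van_chart {V : Scheme.{u}} {φ : V ⟶ T} [IsOpenImmersion φ] {ψ : KRR.PY r V ⟶ P}
    (hsq : IsPullback ψ (KRR.pr r V) π φ) (M : P.Modules) [Coh.IsQCoh M] {q : ℕ} (h : VanP π q M) :
    KPr28.Van q ((Scheme.Modules.pullback ψ).obj M) :=
  haveI := H.loc.isProper
  KPr28.isZero_rpushAb_of_sq hsq M q h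

theorem reg_chart {V : Scheme.{u}} {φ : V ⟶ T} [IsOpenImmersion φ] {ψ : KRR.PY r V ⟶ P}
    (hsq : IsPullback ψ (KRR.pr r V) π φ) (e : (Scheme.Modules.pullback ψ).obj L ≅ Twist.twistOver r V 1)
    {M : P.Modules} [Coh.IsQCoh M] (h : Reg π L Li M) :
    KRR.IsRegSheaf r V ((Scheme.Modules.pullback ψ).obj M) := fun i hi => by
  haveI := H.isQCoh_tw (M := M) (-(i : ℤ))
  obtain ⟨e'⟩ := H.pullback_tw ψ e (-(i : ℤ)) M
  exact KPr28.van_of_iso e' (H.van_chart hsq _ (h i hi))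

theorem reg_of_charts (M : P.Modules) [Coh.IsQCoh M]
    (h : ∀ (V : Scheme.{u}) (φ : V ⟶ T) (ψ : KRR.PY r V ⟶ P), IsOpenImmersion φ → IsAffine V →
      IsPullback ψ (KRR.pr r V) π φ → ((Scheme.Modules.pullback ψ).obj L ≅ Twist.twistOver r V 1) →
      KRR.IsRegSheaf r V ((Scheme.Modules.pullback ψ).obj M)) : Reg π L Li M := fun i hi => by
  haveI := H.isQCoh_tw (M := M) (-(i : ℤ))
  refine H.vanP_of_charts _ i fun V φ ψ hφ hV hsq e => ?_
  obtain ⟨e'⟩ := H.pullback_tw ψ e (-(i : ℤ)) M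
  exact KPr28.van_of_iso e'.symm (h V φ ψ hφ hV hsq e i hi)

theorem reg_tw {M : P.Modules} [Coh.IsQCoh M] (h : Reg π L Li M) {m : ℤ} (hm : 0 ≤ m) :
    Reg π L Li (tw L Li m M) := by
  haveI := H.isQCoh_tw (M := M) m
  refine H.reg_of_charts _ fun V φ ψ hφ hV hsq e => ?_
  obtain ⟨e'⟩ := H.pullback_tw ψ e m M
  exact KPr28.isRegSheaf_of_iso e'.symm (KPr28.isRegSheaf_twF (H.reg_chart hsq e h) hm)

theorem vanP_of_reg {M : P.Modules} [Coh.IsQCoh M] (h : Reg π L Li M) (q : ℕ) (hq : 1 ≤ q) : VanP π q M :=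
  H.vanP_of_charts M q fun _ _ _ hφ _ hsq e => KPr28.van_of_reg (H.reg_chart hsq e h) q hq

theorem isFinLocFree_push {M : P.Modules} (hM : FlatMod.IsFinLocFree M) (h : Reg π L Li M) :
    FlatMod.IsFinLocFree ((Scheme.Modules.pushforward π).obj M) := by
  haveI := H.loc.isProper
  haveI : Coh.IsQCoh M := (Coherent.CohBC.isCoh_of_isFinLocFree hM).1
  refine KPr28.isFinLocFree_push_of_cover M fun t => ?_
  obtain ⟨V, φ, ψ, hφ, hV, hsq, ht, ⟨e⟩⟩ := H.loc.chart t
  exact ⟨_, _, ψ, _, φ, hφ, hsq, ht,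
    KPr28.isFinLocFree_push_reg (DCat.PullPerf.isFinLocFree_pullback _ hM) (H.reg_chart hsq e h)⟩

theorem epi_counit {M : P.Modules} (hM : FlatMod.IsFinLocFree M) (h : Reg π L Li M) :
    Epi ((Scheme.Modules.pullbackPushforwardAdjunction π).counit.app M) := by
  haveI := H.loc.isProper
  haveI : Coh.IsQCoh M := (Coherent.CohBC.isCoh_of_isFinLocFree hM).1
  refine KPr28.epi_counit_of_cover M fun t => ?_
  obtain ⟨V, φ, ψ, hφ, hV, hsq, ht, ⟨e⟩⟩ := H.loc.chart t
  exact ⟨_, _, ψ, _, φ, hφ, hsq, ht,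
    KPr28.epi_counit' (DCat.PullPerf.isFinLocFree_pullback _ hM) (H.reg_chart hsq e h)⟩

/-- High twists of a bundle are regular. -/
theorem exists_bound [CompactSpace T] {M : P.Modules} (hM : FlatMod.IsFinLocFree M) :
    ∃ N : ℕ, ∀ m : ℤ, (N : ℤ) ≤ m → Reg π L Li (tw L Li m M) := by
  haveI := H.loc.isProper
  haveI : Coh.IsQCoh M := (Coherent.CohBC.isCoh_of_isFinLocFree hM).1
  choose V φ ψ hφ hV hsq ht e using H.loc.chart
  have hb : ∀ t : T, ∃ N : ℕ, ∀ m : ℤ, (N : ℤ) ≤ m →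
      KRR.IsRegSheaf r (V t) (KRR.twF r (V t) m ((Scheme.Modules.pullback (ψ t)).obj M)) := fun t =>
    haveI := hV t
    KPr28.exists_bound_reg' (DCat.PullPerf.isFinLocFree_pullback _ hM)
  choose N hN using hb
  obtain ⟨s, hs⟩ := isCompact_univ.elim_finite_subcover (fun t : T => Set.range (φ t).base)
    (fun t => haveI := hφ t; (φ t).isOpenEmbedding.isOpen_range) (fun t _ => Set.mem_iUnion.2 ⟨t, ht t⟩)
  refine ⟨s.sup N, fun m hm i hi => ?_⟩
  haveI := H.isQCoh_tw (M := M) m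
  haveI := H.isQCoh_tw (M := tw L Li m M) (-(i : ℤ))
  refine KPr28.isZero_rpushAb_of_cover _ i fun t => ?_
  obtain ⟨t', ht', htt⟩ := Set.mem_iUnion₂.1 (hs (Set.mem_univ t))
  refine ⟨_, _, ψ t', _, φ t', hφ t', hsq t', htt, ?_⟩
  obtain ⟨e₁⟩ := H.pullback_tw (ψ t') (e t').some (-(i : ℤ)) (tw L Li m M)
  obtain ⟨e₂⟩ := H.pullback_tw (ψ t') (e t').some m M
  refine KPr28.van_of_iso e₁.symm ?_
  exact KPr28.isRegSheaf_of_iso e₂.symm (hN t' m
    (le_trans (by exact_mod_cast Finset.le_sup (f := N) ht') hm)) i hi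

/-- The powers of `L` down to `-r` have no higher direct images. -/
theorem vanP_OP (q : ℕ) (d : ℤ) (h : (1 ≤ q ∧ -(r : ℤ) ≤ d) ∨ (d < 0 ∧ -(r : ℤ) ≤ d)) :
    VanP π q (OP L Li d) := by
  haveI : Coh.IsQCoh (OP L Li d) := (Coherent.CohBC.isCoh_of_isFinLocFree (H.isFinLocFree_OP d)).1
  refine H.vanP_of_charts _ q fun V φ ψ hφ hV hsq e => ?_
  obtain ⟨eo⟩ := nonempty_pullback_OP ψ e H.invInv H.inverse d
  haveI : Coh.IsQCoh (Coh.structureModule V) :=
    CAlgH3.LocFreeFactor.isQCoh_of_finLocFree (Coherent.CohBC.isFinLocFree_structureModule V)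
  refine KPr28.van_of_iso ?_ (KPr28.van_twF_pull (n := r) (Y := V) (G := Coh.structureModule V) d q
    (fun h' => by omega) (fun h' => by omega))
  exact AmpleLib.tensorIso (Iso.refl _) (PicLoc.pullbackStructureIso _) ≪≫
    AmpleLib.tensorComm _ _ ≪≫ AmpleLib.unitTensorIso _ ≪≫ eo.symm

theorem reg_structure : Reg π L Li (Coh.structureModule P) := by
  haveI : Coh.IsQCoh (Coh.structureModule P) :=
    CAlgH3.LocFreeFactor.isQCoh_of_finLocFree (Coherent.CohBC.isFinLocFree_structureModule P)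
  exact H.reg_of_charts _ fun V φ ψ _ _ _ _ =>
    KPr28.isRegSheaf_of_iso (PicLoc.pullbackStructureIso ψ).symm KPr28.isRegSheaf_structure

/-- `π_* O` is a line bundle. -/
theorem rankOne_push_structure :
    FlatMod.IsFinLocFreeOfRank 1 ((Scheme.Modules.pushforward π).obj (Coh.structureModule P)) := by
  haveI := H.loc.isProper
  haveI : Coh.IsQCoh (Coh.structureModule P) :=
    CAlgH3.LocFreeFactor.isQCoh_of_finLocFree (Coherent.CohBC.isFinLocFree_structureModule P)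
  refine isFinLocFreeOfRank_of_local _ fun t => ?_
  obtain ⟨V, φ, ψ, hφ, hV, hsq, ht, -⟩ := H.loc.chart t
  haveI := KPr28.isIso_bc0_of_sq hsq (Coh.structureModule P)
  obtain ⟨e₁⟩ := KPr28.nonempty_push_twist r V 0
  obtain ⟨z⟩ := CM28.nonempty_twF_zero (Coh.structureModule (KRR.PY r V))
  refine ⟨V, φ, hφ, ht, ?_⟩
  refine KModel28.rank_iso ?_ (show FlatMod.IsFinLocFreeOfRank 1 (FlatMod.freeMod V 1) from
    VarietyLib.isFinLocFreeOfRank_freeMod 1)
  exact eqToIso (congrArg (FlatMod.freeMod V) (Nat.choose_zero_right (r + 0)).symm) ≪≫ e₁.symm ≪≫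
    (Scheme.Modules.pushforward (KRR.pr r V)).mapIso (z ≪≫ (PicLoc.pullbackStructureIso ψ).symm) ≪≫
    (asIso (CohBC.bc0 π φ (KRR.pr r V) ψ hsq.w (Coh.structureModule P))).symm ≪≫
    ((Scheme.Modules.restrictFunctorIsoPullback φ).app _).symm

end Ctx

end Groth.Agent.KPB28
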