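import Groth.Agent.KPB28.Reg
import Groth.Agent.KPull28.Basic
import Groth.Agent.Coherent.ProjFormula
import Groth.Agent.CohCmpLib.Edge
import Groth.Agent.BlowUpCoh.LocFree
import Groth.Agent.KPr28.Resolve
import Groth.Agent.VarietyLib.CurveDegree

/-!
# Direct images of twisted pullbacks
-/

set_option autoImplicit false
set_option linter.style.haveILetI false
set_option backward.isDefEq.respectTransparency false

universe u

open CategoryTheory CategoryTheory.Limits AlgebraicGeometry TopologicalSpace Opposite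
open Groth.Agent.Coherent

noncomputable section

namespace Groth.Agent.KPB28

variable {P T : Scheme.{u}} {r : ℕ} {π : P ⟶ T} {L Li : P.Modules}

/-- Vanishing passes to quotients, one degree up. -/
theorem vanP_X₃ {S : ShortComplex P.Modules} (hS : S.ShortExact) (j : ℕ)
    (h₂ : VanP π j S.X₂) (h₁ : VanP π (j + 1) S.X₁) : VanP π j S.X₃ := by
  let _ := HasDerivedCategory.standard (Sheaf (Opens.grothendieckTopology ↥P) AddCommGrpCat.{u})
  let _ := HasDerivedCategory.standard (Sheaf (Opens.grothendieckTopology ↥T) AddCommGrpCat.{u})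
  let F := Coh.pushAb π
  have hS' := toAb_shortExact hS
  obtain ⟨e₁⟩ := SpecSeq.nonempty_rdSingle_iso F (Coh.toAb S.X₁) (j + 1)
  obtain ⟨e₂⟩ := SpecSeq.nonempty_rdSingle_iso F (Coh.toAb S.X₂) j
  obtain ⟨e₃⟩ := SpecSeq.nonempty_rdSingle_iso F (Coh.toAb S.X₃) j
  obtain ⟨δ, hT⟩ := SpecSeq.exists_plus_singleTriangle hS'
  exact (((SpecSeq.rdH F).homologySequence_exact₃ _ hT (j : ℤ) ((j + 1 : ℕ) : ℤ) (by push_cast; ring)).isZero_X₂
    ((h₂.of_iso e₂).eq_of_src _ _) ((h₁.of_iso e₁).eq_of_tgt _ _)).of_iso e₃.symm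

theorem shortExact_push {S : ShortComplex P.Modules} (hS : S.ShortExact) (h₁ : VanP π 1 S.X₁) :
    (S.map (Scheme.Modules.pushforward π)).ShortExact :=
  haveI : HasInjectiveResolutions P.Modules := Coherent.hasInjectiveResolutions_modules _
  CohCmpLib.shortExact_push_of_isZero π hS (BlowUpCoh.isZero_rpush_of_rpushAb _ h₁)

theorem isZero_push_of_vanP {M : P.Modules} (h : VanP π 0 M) :
    IsZero ((Scheme.Modules.pushforward π).obj M) := by
  have h1 : IsZero ((toAbFunctor T).obj ((Scheme.Modules.pushforward π).obj M)) :=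
    IsZero.of_iso h (((Coh.pushAb π).rightDerivedZeroIsoSelf).app (Coh.toAb M)).symm
  rw [IsZero.iff_id_eq_zero]
  exact (toAbFunctor T).map_injective (h1.eq_of_src _ _)

variable (π) in
/-- `π_* M ⊗ V ≅ π_* (M ⊗ π^* V)`. -/
theorem nonempty_push_tensor_pull (M : P.Modules) {V : T.Modules} (hV : FlatMod.IsFinLocFree V) :
    Nonempty ((Scheme.Modules.pushforward π).obj (CohB1.tensorMod M ((Scheme.Modules.pullback π).obj V)) ≅
      CohB1.tensorMod ((Scheme.Modules.pushforward π).obj M) V) :=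
  ⟨(Scheme.Modules.pushforward π).mapIso (AmpleLib.tensorComm _ _) ≪≫
    ((Coherent.projIso (f := π) hV).app M).symm ≪≫ AmpleLib.tensorComm _ _⟩

/-- `M ⊗ L = M(1)`. -/
theorem nonempty_tensor_line (hL : PicF.IsInvertible L) (M : P.Modules) :
    Nonempty (CohB1.tensorMod M L ≅ tw L Li 1 M) := by
  obtain ⟨e⟩ := nonempty_OP_nat (Li := Li) hL 1
  exact ⟨AmpleLib.tensorComm _ _ ≪≫ AmpleLib.tensorIso
    ((AmpleLib.unitTensorIso L).symm ≪≫ e.symm) (Iso.refl M)⟩

namespace Ctx

variable (H : Ctx r π L Li)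
include H

/-- Higher direct images of twisted pullbacks. -/
theorem vanP_twPull {V : T.Modules} (hV : FlatMod.IsFinLocFree V) (q : ℕ) (d : ℤ)
    (h : (1 ≤ q ∧ -(r : ℤ) ≤ d) ∨ (d < 0 ∧ -(r : ℤ) ≤ d)) :
    VanP π q (tw L Li d ((Scheme.Modules.pullback π).obj V)) := by
  have hM := H.isFinLocFree_tw (DCat.PullPerf.isFinLocFree_pullback π hV) d
  haveI : Coh.IsQCoh (tw L Li d ((Scheme.Modules.pullback π).obj V)) := (Coherent.CohBC.isCoh_of_isFinLocFree hM).1
  refine H.vanP_of_charts _ q fun W φ ψ hφ hW hsq e => ?_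
  obtain ⟨et⟩ := H.pullback_tw ψ e d ((Scheme.Modules.pullback π).obj V)
  haveI : Coh.IsQCoh ((Scheme.Modules.pullback φ).obj V) :=
    CAlgH3.LocFreeFactor.isQCoh_of_finLocFree (DCat.PullPerf.isFinLocFree_pullback φ hV)
  refine KPr28.van_of_iso ?_ (KPr28.van_twF_pull (n := r) (Y := W) (G := (Scheme.Modules.pullback φ).obj V) d q
    (fun h' => by omega) (fun h' => by omega))
  exact KPr28.twF_iso d ((Scheme.Modules.pullbackComp (KRR.pr r W) φ).app V ≪≫
    (Scheme.Modules.pullbackCongr hsq.w.symm).app V ≪≫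
    ((Scheme.Modules.pullbackComp ψ π).app V).symm) |> fun i => i.some ≪≫ et.symm

/-- Nonnegative twists of pullbacks are regular. -/
theorem reg_twPull {V : T.Modules} (hV : FlatMod.IsFinLocFree V) {d : ℤ} (hd : 0 ≤ d) :
    Reg π L Li (tw L Li d ((Scheme.Modules.pullback π).obj V)) := fun i hi => by
  obtain ⟨e⟩ := H.tw_tw ((Scheme.Modules.pullback π).obj V) (show -(i : ℤ) + d = d - i by ring)
  refine vanP_of_iso e.symm ?_
  rcases le_or_gt (-(r : ℤ)) (d - i) with h | h
  · exact H.vanP_twPull hV i (d - i) (Or.inl ⟨hi, h⟩)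
  · have hM := H.isFinLocFree_tw (DCat.PullPerf.isFinLocFree_pullback π hV) (d - i)
    haveI : Coh.IsQCoh (tw L Li (d - i) ((Scheme.Modules.pullback π).obj V)) :=
      (Coherent.CohBC.isCoh_of_isFinLocFree hM).1
    refine H.vanP_of_charts _ i fun W φ ψ hφ hW hsq e' => ?_
    obtain ⟨et⟩ := H.pullback_tw ψ e' (d - i) ((Scheme.Modules.pullback π).obj V)
    haveI : Coh.IsQCoh ((Scheme.Modules.pullback φ).obj V) :=
      CAlgH3.LocFreeFactor.isQCoh_of_finLocFree (DCat.PullPerf.isFinLocFree_pullback φ hV)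
    refine KPr28.van_of_iso ?_ (KPr28.van_twF_pull (n := r) (Y := W) (G := (Scheme.Modules.pullback φ).obj V)
      (d - i) i (fun h' => by omega) (fun h' => by omega))
    exact KPr28.twF_iso (d - i) ((Scheme.Modules.pullbackComp (KRR.pr r W) φ).app V ≪≫
      (Scheme.Modules.pullbackCongr hsq.w.symm).app V ≪≫
      ((Scheme.Modules.pullbackComp ψ π).app V).symm) |> fun i => i.some ≪≫ et.symm

/-- Twisted pullbacks have locally free direct images, down to `-r`. -/
theorem isFinLocFree_push_twPull {V : T.Modules} (hV : FlatMod.IsFinLocFree V) {d : ℤ} (hd : -(r : ℤ) ≤ d) :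
    FlatMod.IsFinLocFree ((Scheme.Modules.pushforward π).obj (tw L Li d ((Scheme.Modules.pullback π).obj V))) := by
  rcases lt_or_ge d 0 with h | h
  · exact ExtFilt28.isFinLocFree_isZero (isZero_push_of_vanP (H.vanP_twPull hV 0 d (Or.inr ⟨h, hd⟩)))
  · exact H.isFinLocFree_push (H.isFinLocFree_tw (DCat.PullPerf.isFinLocFree_pullback π hV) d) (H.reg_twPull hV h)

theorem isFinLocFree_push_OP {d : ℤ} (hd : -(r : ℤ) ≤ d) :
    FlatMod.IsFinLocFree ((Scheme.Modules.pushforward π).obj (OP L Li d)) :=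
  FlatMorAdm.isFinLocFree_of_iso
    ((Scheme.Modules.pushforward π).mapIso (AmpleLib.tensorIso (Iso.refl _) (PicLoc.pullbackStructureIso π) ≪≫
      AmpleLib.tensorComm _ _ ≪≫ AmpleLib.unitTensorIso _))
    (H.isFinLocFree_push_twPull (Coherent.CohBC.isFinLocFree_structureModule T) hd)

end Ctx

end Groth.Agent.KPB28
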