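import Groth.Agent.KPB28.Push
import Groth.Agent.KPB28.ExtSes
import Groth.Agent.CycLib28.PB.Ops.LocFree
import Groth.Agent.Surf15.Inverse
import Groth.Agent.VarietyLib.CurveDegree

/-!
# The tautological sequences of exterior powers on a projective bundle
-/

set_option autoImplicit false
set_option linter.style.haveILetI false
set_option backward.isDefEq.respectTransparency false

universe u

open CategoryTheory CategoryTheory.Limits AlgebraicGeometry TopologicalSpace Opposite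
open Groth.Agent.Coherent

noncomputable section

namespace Groth.Agent.KPB28

variable {P T : Scheme.{u}} {r : ℕ}

theorem ctx_of_isProjBundle {E : T.Modules} (hE : FlatMod.IsFinLocFreeOfRank (r + 1) E)
    {π : P ⟶ T} {O1 : P.Modules} {q : (Scheme.Modules.pullback π).obj E ⟶ O1}
    (hPB : KRR.IsProjBundle π E O1 q) {Li : P.Modules} (hinv : ClSub.IsInverseOf Li O1) : Ctx r π O1 Li where
  loc := locPn_of_isProjBundle hE hPB
  invInv := Surf15.isInvertible_inverse (KRRPBLib.isInvertible_of_rankOne hPB.invertible)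
    (hinv.map fun e => AmpleLib.tensorComm _ _ ≪≫ e)
  inverse := hinv

/-- The exterior powers of `E` and of the kernel of a surjection `π^* E → O(1)`, with their twisted sequences. -/
theorem exists_seq' {E : T.Modules} (hE : FlatMod.IsFinLocFreeOfRank (r + 1) E)
    {π : P ⟶ T} {O1 : P.Modules} (q : (Scheme.Modules.pullback π).obj E ⟶ O1) [Epi q]
    (hO1 : FlatMod.IsFinLocFreeOfRank 1 O1) {Li : P.Modules} (H : Ctx r π O1 Li) :
    ∃ (W : ℕ → T.Modules) (B : ℕ → P.Modules),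
      (∀ i, FlatMod.IsFinLocFree (W i)) ∧ (∀ i, ExtPow.IsExtPow i E (W i)) ∧ (∀ i, FlatMod.IsFinLocFree (B i)) ∧
      Nonempty (B 0 ≅ Coh.structureModule P) ∧ IsZero (B (r + 1)) ∧
      ∀ (i : ℕ) (d : ℤ), ∃ S : ShortComplex P.Modules, S.ShortExact ∧
        Nonempty (S.X₁ ≅ tw O1 Li d (B (i + 1))) ∧
        Nonempty (S.X₂ ≅ tw O1 Li d ((Scheme.Modules.pullback π).obj (W (i + 1)))) ∧
        Nonempty (S.X₃ ≅ tw O1 Li (d + 1) (B i)) := by
  have hE' := VarietyLib.isFinLocFree_of_rank hE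
  have hπE := VarietyLib.isFinLocFreeOfRank_pullback π hE
  have hK := CycLib28.PB.Ops.isFinLocFreeOfRank_kernel_line hπE H.loc.invertible q
  have hK' := VarietyLib.isFinLocFree_of_rank hK
  choose W hW hWp using fun i => ExtPowEx28.exists_isExtPow hE' i
  choose B hB hBp using fun i => ExtPowEx28.exists_isExtPow hK' i
  let S₀ : ShortComplex P.Modules := ShortComplex.mk (kernel.ι q) q (kernel.condition q)
  have hS₀ : S₀.ShortExact :=
    ShortComplex.ShortExact.mk' (ShortComplex.exact_of_f_is_kernel _ (kernelIsKernel _)) inferInstance inferInstance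
  refine ⟨W, B, hW, hWp, hB, KvbLam28.exists_iso_of_isExtPow (hBp 0) (KvbLam28.isExtPow_zero _), ?_, fun i d => ?_⟩
  · have h := rank_extPow (hBp (r + 1)) hK
    rw [Nat.choose_eq_zero_of_lt (by omega)] at h
    exact KModel28.isZero_of_rank_zero h
  · obtain ⟨S, hS, ⟨e₁⟩, ⟨e₂⟩, ⟨e₃⟩⟩ := exists_ses_extPow_line (S := S₀) hS₀ hK' hO1 i
      (hBp (i + 1)) (ExtPowEx28.isExtPow_pullback_vb π hE' (hWp (i + 1))) (hBp i)
    obtain ⟨S', hS', h₁, h₂, h₃⟩ := H.tw_ses hS d
    obtain ⟨eL⟩ := nonempty_tensor_line (Li := Li) H.loc.invertible (B i)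
    obtain ⟨et⟩ := H.tw_tw (B i) (rfl : d + 1 = d + 1)
    exact ⟨S', hS', ⟨eqToIso h₁ ≪≫ AmpleLib.tensorIso (Iso.refl _) e₁⟩,
      ⟨eqToIso h₂ ≪≫ AmpleLib.tensorIso (Iso.refl _) e₂⟩,
      ⟨eqToIso h₃ ≪≫ AmpleLib.tensorIso (Iso.refl _) (e₃ ≪≫ eL) ≪≫ et⟩⟩

end Groth.Agent.KPB28
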